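import Cfsg.Agent.H113.PSU.Rank3_m3
import Cfsg.Agent.Lib.PermNetOrbit
import Cfsg.Agent.Lib.PermNetPt
import Cfsg.Agent.Lib.PermNetFix
import Cfsg.Agent.S1680
import Cfsg.Agent.H997.OutSuz
import Cfsg.Agent.H387.VO.Main
import Cfsg.Agent.Lib.PermNetFast
import Cfsg.Agent.Prune
set_option linter.all false

section
prune_inst 0x7f00000000000000000000000000000000000000000000000000000000000000000000000000000000000000000000000000000000000000000000000000000000000000000000000000000000000000003fffffffffffffffffffffffffffbeffbdfbfeffff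

-- part: H896/Van/Chi
section
prune_inst 0x4010000
set_option linter.all false
open scoped Cfsg.Agent.FastGrp

/-!
# The values of the characters of a permutation group of rank 3 (helper896, S4987)

`exists_irr` : if the parameters of the graph `R` are `a, b` and `u, v` are the two eigenvalues, then some irreducible
character `χ` satisfies `(u - v) χ(g) = #{x | R x (g x)} - v #fix(g) - (k - v)`.
-/

set_option autoImplicit false
set_option linter.unusedSectionVars false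

namespace Cfsg.Agent.H896.Van.Chi

open Cfsg Cfsg.Agent.Characters.Core Cfsg.Agent.H690.Spor.RankThree Cfsg.Agent.H690.Spor.RankThree.R3
open scoped ComplexConjugate

variable {G X : Type*} [Group G] [MulAction G X] {R : X → X → Prop} {k l : ℕ}

theorem finite_pt (h : R3 G X R k l) : Finite X := by
  have hn := h.cardn
  by_contra hcon
  rw [not_finite_iff_infinite] at hcon
  rw [Nat.card_eq_zero_of_infinite] at hn
  omega

/-- The parameters are determined by one number of common neighbours. -/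
theorem params_of [Fintype X] [DecidableEq X] [DecidableRel R] (h : R3 G X R k l) {x0 y0 : X} (hne : x0 ≠ y0)
    (hR : ¬ R x0 y0) {a b : ℕ} (hb : Nat.card {z // R x0 z ∧ R z y0} = b) (hk : k * k = k + k * a + l * b) :
    ∀ x y, ∑ z, adj R x z * adj R z y = (k - b : ℂ) * dia x y + (a - b : ℂ) * adj R x y + b := by
  obtain ⟨a', b', hab⟩ := h.exists_params
  have h1 := hab x0 y0
  rw [R3.sum_mul] at h1
  unfold dia adj at h1
  rw [if_neg hne, if_neg hR, mul_zero, mul_zero, zero_add, zero_add] at h1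
  have h2 : b = b' := by
    have h3 : ((com R x0 y0 : ℕ) : ℂ) = (b' : ℂ) := h1
    have h4 : com R x0 y0 = b' := by exact_mod_cast h3
    rw [← h4, ← hb]
    rfl
  subst h2
  have h5 := h.params_eq hab
  have h6 : k * a = k * a' := by omega
  have h7 : a = a' := Nat.eq_of_mul_eq_mul_left h.k0 h6
  subst h7
  exact hab

/-- **The character of the eigenspace.** -/
theorem exists_irr [Finite G] (h : R3 G X R k l) {x0 y0 : X} (hne : x0 ≠ y0) (hR : ¬ R x0 y0) {a b : ℕ}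
    (hb : Nat.card {z // R x0 z ∧ R z y0} = b) (hk : k * k = k + k * a + l * b) {u v : ℂ} (huv : u ≠ v)
    (h1 : u + v = a - b) (h2 : u * v = b - k) (hu : u * (k + l) + k ≠ 0) (hv : v * (k + l) + k ≠ 0) :
    ∃ χ : IrrCharacter G, ∀ g : G, (u - v) * (χ : G → ℂ) g =
      (Nat.card {x : X // R x (g • x)} : ℂ) - v * (Nat.card (MulAction.fixedBy X g) : ℂ) - (k - v) := by
  classical
  have := finite_pt h
  have := Fintype.ofFinite X
  have := Fintype.ofFinite G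
  have hn := h.cardn
  have hab := params_of h hne hR hb hk
  have hchar : ∀ u v : ℂ, u ≠ v → u + v = a - b → u * v = b - k →
      IsCharacter G (fun g : G => ∑ x : X, ker R k (Nat.card X) u v x (g • x)) := by
    intro u v huv h3 h4
    exact Cfsg.Agent.H651.isCharacter_sum_perm (MulAction.toPermHom G X) (ker R k (Nat.card X) u v)
      (h.ker_mul hab huv h3 h4) (fun g x y => h.ker_smul _ u v g x y)
  have hc1 := hchar u v huv h1 h2
  have hc2 := hchar v u huv.symm (by rw [add_comm]; exact h1) (by rw [mul_comm]; exact h2)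
  set θ₁ : G → ℂ := fun g : G => ∑ x : X, ker R k (Nat.card X) u v x (g • x) with hθ₁
  set θ₂ : G → ℂ := fun g : G => ∑ x : X, ker R k (Nat.card X) v u x (g • x) with hθ₂
  have hnC : (Nat.card X : ℂ) ≠ 0 := by
    have : Nat.card X ≠ 0 := by omega
    exact_mod_cast this
  have hval : ∀ u v : ℂ, ∀ g : G, ∑ x : X, ker R k (Nat.card X) u v x (g • x) =
      (u - v)⁻¹ * (∑ x : X, adj R x (g • x) - v * (Nat.card (MulAction.fixedBy X g) : ℂ) - (k - v)) := by
    intro u v g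
    unfold ker
    rw [← Finset.mul_sum, Finset.sum_sub_distrib, Finset.sum_sub_distrib, ← Finset.mul_sum, sum_dia_smul,
      Finset.sum_const, Finset.card_univ, ← Nat.card_eq_fintype_card, nsmul_eq_mul]
    congr 2
    field_simp
  have hd : u - v ≠ 0 := sub_ne_zero.2 huv
  have hi : (u - v)⁻¹ * (u - v) = 1 := inv_mul_cancel₀ hd
  have hi' : (v - u)⁻¹ = -(u - v)⁻¹ := by rw [← neg_sub, inv_neg]
  have hsum : (fun g : G => (Nat.card (MulAction.fixedBy X g) : ℂ) - 1) = θ₁ + θ₂ := by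
    funext g
    show _ = θ₁ g + θ₂ g
    rw [hθ₁, hθ₂]
    simp only [hval]
    rw [hi']
    linear_combination (-(Nat.card (MulAction.fixedBy X g) : ℂ) + 1) * hi
  have hnorm := h.norm_two (G := G)
  rw [hsum, classInner_add_left, classInner_add_right, classInner_add_right] at hnorm
  have hone : ∑ x : X, adj R x ((1 : G) • x) = 0 := by
    refine Finset.sum_eq_zero fun x _ => ?_
    unfold adj
    rw [one_smul, if_neg (h.irr x)]
  have hfix1 : Nat.card (MulAction.fixedBy X (1 : G)) = Nat.card X := by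
    rw [MulAction.fixedBy_one_eq_univ]
    exact Nat.card_univ
  have hn' : (Nat.card X : ℂ) = 1 + k + l := by exact_mod_cast hn
  have hdeg1 : θ₁ 1 ≠ 0 := by
    have h3 : θ₁ 1 * (u - v) = -(v * (k + l) + k) := by
      rw [hθ₁]
      simp only [hval]
      rw [hone, hfix1, hn']
      linear_combination (0 - v * (1 + k + l) - (k - v)) * hi
    intro h4
    rw [h4, zero_mul] at h3
    exact hv (neg_eq_zero.1 h3.symm)
  have hdeg2 : θ₂ 1 ≠ 0 := by
    have h3 : θ₂ 1 * (u - v) = u * (k + l) + k := by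
      rw [hθ₂]
      simp only [hval]
      rw [hone, hfix1, hn', hi']
      linear_combination (0 - (0 - u * (1 + k + l) - (k - u))) * hi
    intro h4
    rw [h4, zero_mul] at h3
    exact hu h3.symm
  obtain ⟨m11, hm11⟩ := classInner_isNat hc1 hc1
  obtain ⟨m12, hm12⟩ := classInner_isNat hc1 hc2
  obtain ⟨m21, hm21⟩ := classInner_isNat hc2 hc1
  obtain ⟨m22, hm22⟩ := classInner_isNat hc2 hc2
  rw [hm11, hm12, hm21, hm22] at hnorm
  have hnormN : m11 + m12 + (m21 + m22) = 2 := by exact_mod_cast hnorm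
  have h11 : m11 ≠ 0 := by
    rintro rfl
    have h3 := classInner_self_eq_zero (φ := θ₁) (by rw [hm11]; simp)
    exact hdeg1 (by rw [h3]; rfl)
  have h22 : m22 ≠ 0 := by
    rintro rfl
    have h3 := classInner_self_eq_zero (φ := θ₂) (by rw [hm22]; simp)
    exact hdeg2 (by rw [h3]; rfl)
  have hm1 : m11 = 1 := by omega
  have hi1 : IsIrrCharacter G θ₁ := isIrr_of_classInner_self hc1 (by rw [hm11, hm1]; simp)
  refine ⟨⟨θ₁, hi1⟩, fun g => ?_⟩
  show (u - v) * θ₁ g = _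
  rw [hθ₁]
  simp only [hval]
  have hadj : ∑ x : X, adj R x (g • x) = (Nat.card {x : X // R x (g • x)} : ℂ) := by
    unfold adj
    rw [Finset.sum_boole, Nat.card_eq_fintype_card, Fintype.card_subtype]
  rw [hadj]
  linear_combination ((Nat.card {x : X // R x (g • x)} : ℂ) - v * (Nat.card (MulAction.fixedBy X g) : ℂ) - (k - v)) * hi

end Cfsg.Agent.H896.Van.Chi
end

-- part: H896/Van/Suz
section
set_option linter.all false
open scoped Cfsg.Agent.FastGrp

-- part: H896/Van/Walk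
section
/-!
# Counting the pairs `(i, x i)` in an orbital by a walk through all points (helper896, S4987)

`G` acts on `ℕ` by `φ`, the orbit of `0` is `{0, …, n - 1}`, the set of bits of `U` is the orbit of `p₁` under the
stabilizer of `0`. `walk` runs through a list of networks, carries along the current point `i` and the mask `A` of the
neighbours of `i`, and marks `i` (bit `i`) and, if `x i` is a neighbour of `i`, also the bit `K + i`.
-/

set_option autoImplicit false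
set_option exponentiation.threshold 5000

namespace Cfsg.Agent.H896.Van.Walk

open Cfsg Cfsg.Agent.Lib Cfsg.Agent.Lib.PermNet Cfsg.Agent.Lib.PermNetOrbit Cfsg.Agent.Lib.PermNetPt
  Cfsg.Agent.H690.Spor.RankThree Cfsg.Agent.Characters.Core

/-- mark the point `i` -/
noncomputable def upd (K : ℕ) (xw : List Net) (i A acc : ℕ) : ℕ :=
  Bool.rec (Nat.lor acc (Nat.shiftLeft 1 i)) (Nat.lor (Nat.lor acc (Nat.shiftLeft 1 i)) (Nat.shiftLeft 1 (Nat.add K i)))
    (tb A (ptWord xw i))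

/-- the walk -/
noncomputable def walk (K : ℕ) (xw : List Net) (w : List Net) : ℕ → ℕ → ℕ → ℕ :=
  List.rec (motive := fun _ => ℕ → ℕ → ℕ → ℕ) (fun _ _ acc => acc)
    (fun L _ ih i A acc => force (invPt L i) fun i' => seq (L.app A) fun A' =>
      seq (upd K xw i' A' acc) fun acc' => ih i' A' acc') w

theorem walk_cons (K : ℕ) (xw : List Net) (L : Net) (w : List Net) (i A acc : ℕ) :
    walk K xw (L :: w) i A acc = walk K xw w (invPt L i) (L.app A) (upd K xw (invPt L i) (L.app A) acc) := by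
  show force (invPt L i) (fun i' => seq (L.app A) fun A' => seq (upd K xw i' A' acc)
    fun acc' => walk K xw w i' A' acc') = _
  rw [force_eq, seq_eq, seq_eq]

variable {G : Type*} [Group G] (φ : G →* Equiv.Perm ℕ)

/-- the orbital -/
def Rn (p₁ i j : ℕ) : Prop := ∃ g : G, φ g 0 = i ∧ φ g p₁ = j

/-- the invariant of the walk -/
def Inv (U i A : ℕ) : Prop := ∃ h : G, φ h 0 = i ∧ ∀ q, A.testBit q = U.testBit ((φ h)⁻¹ q)

/-- the marks are right -/
def Good (p₁ K : ℕ) (xw : List Net) (acc : ℕ) : Prop :=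
  ∀ q < K, acc.testBit (K + q) = true ↔ (acc.testBit q = true ∧ Rn φ p₁ q (wperm xw q))

variable {φ} {p₁ U n K N : ℕ}

theorem testBit_one_shift (i q : ℕ) : (Nat.shiftLeft 1 i).testBit q = decide (i = q) := by
  show (1 <<< i).testBit q = _
  rw [Nat.one_shiftLeft, Nat.testBit_two_pow]

theorem good_upd {xw : List Net} (hx : WOk N xw) {i A acc : ℕ} (hi : i < K)
    (hA : A.testBit (wperm xw i) = true ↔ Rn φ p₁ i (wperm xw i)) (h : Good φ p₁ K xw acc) :
    Good φ p₁ K xw (upd K xw i A acc) := by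
  intro q hq
  unfold upd
  rw [ptWord_eq hx, tb_eq]
  by_cases hc : A.testBit (wperm xw i) = true
  · rw [hc]
    show ((acc ||| (Nat.shiftLeft 1 i)) ||| (Nat.shiftLeft 1 (K + i))).testBit (K + q) = true ↔
      (((acc ||| (Nat.shiftLeft 1 i)) ||| (Nat.shiftLeft 1 (K + i))).testBit q = true ∧ _)
    rw [Nat.testBit_or, Nat.testBit_or, Nat.testBit_or, Nat.testBit_or, testBit_one_shift, testBit_one_shift,
      testBit_one_shift, testBit_one_shift]
    have h1 : decide (i = K + q) = false := decide_eq_false (by omega)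
    have h2 : decide (K + i = q) = false := decide_eq_false (by omega)
    rw [h1, h2, Bool.or_false, Bool.or_false]
    by_cases hiq : i = q
    · subst hiq
      simp only [decide_true, Bool.or_true, true_and, true_iff]
      exact hA.1 hc
    · have h3 : decide (K + i = K + q) = false := decide_eq_false (by omega)
      have h4 : decide (i = q) = false := decide_eq_false hiq
      rw [h3, h4, Bool.or_false, Bool.or_false]
      exact h q hq
  · have hc' : A.testBit (wperm xw i) = false := by simpa using hc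
    rw [hc']
    show (acc ||| (Nat.shiftLeft 1 i)).testBit (K + q) = true ↔
      ((acc ||| (Nat.shiftLeft 1 i)).testBit q = true ∧ _)
    rw [Nat.testBit_or, Nat.testBit_or, testBit_one_shift, testBit_one_shift]
    have h1 : decide (i = K + q) = false := decide_eq_false (by omega)
    rw [h1, Bool.or_false]
    by_cases hiq : i = q
    · subst hiq
      have h5 := h i hi
      constructor
      · intro h6
        obtain ⟨h7, h8⟩ := h5.1 h6
        exact ⟨by rw [h7]; rfl, h8⟩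
      · rintro ⟨_, h8⟩
        exact absurd (hA.2 h8) hc
    · have h4 : decide (i = q) = false := decide_eq_false hiq
      rw [h4, Bool.or_false]
      exact h q hq

theorem inv_step {L : Net} (hL : L.ok N = true) {s : G} (hs : φ s = L.perm) {i A : ℕ} (h : Inv φ U i A) :
    Inv φ U (invPt L i) (L.app A) := by
  obtain ⟨g, hg, hA⟩ := h
  refine ⟨s⁻¹ * g, ?_, fun q => ?_⟩
  · rw [map_mul, map_inv, Equiv.Perm.mul_apply, hg, invPt_eq hL, hs]
  · rw [testBit_app hL, hA, map_mul, map_inv, mul_inv_rev, inv_inv, Equiv.Perm.mul_apply, hs]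

/-- What the permutation representation has to satisfy. -/
structure Rep (φ : G →* Equiv.Perm ℕ) (S : Subgroup G) (p₁ U n k : ℕ) : Prop where
  lt : ∀ g, φ g 0 < n
  ex : ∀ i < n, ∃ g, φ g 0 = i
  stab : ∀ g, φ g 0 = 0 ↔ g ∈ S
  orb : {p : ℕ | ∃ x ∈ S, φ x p₁ = p} = {p | U.testBit p = true}
  card : {p : ℕ | U.testBit p = true}.ncard = k

theorem Rep.inv_iff {S : Subgroup G} {k : ℕ} (hr : Rep φ S p₁ U n k) {i A : ℕ} (h : Inv φ U i A) (j : ℕ) :
    A.testBit j = true ↔ Rn φ p₁ i j := by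
  obtain ⟨g, hg, hA⟩ := h
  rw [hA]
  constructor
  · intro h1
    have h2 : (φ g)⁻¹ j ∈ {p | U.testBit p = true} := h1
    rw [← hr.orb] at h2
    obtain ⟨x, hx, h3⟩ := h2
    refine ⟨g * x, ?_, ?_⟩
    · rw [map_mul, Equiv.Perm.mul_apply, (hr.stab x).2 hx, hg]
    · rw [map_mul, Equiv.Perm.mul_apply, h3, ← Equiv.Perm.mul_apply, mul_inv_cancel, Equiv.Perm.one_apply]
  · rintro ⟨y, hy1, hy2⟩
    have h2 : (φ g)⁻¹ j ∈ {p : ℕ | ∃ x ∈ S, φ x p₁ = p} := by
      refine ⟨g⁻¹ * y, (hr.stab _).1 ?_, ?_⟩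
      · rw [map_mul, map_inv, Equiv.Perm.mul_apply, hy1, ← hg, ← Equiv.Perm.mul_apply, inv_mul_cancel,
          Equiv.Perm.one_apply]
      · rw [map_mul, map_inv, Equiv.Perm.mul_apply, hy2]
    rw [hr.orb] at h2
    exact h2

theorem good_walk {S : Subgroup G} {k : ℕ} (hr : Rep φ S p₁ U n k) (hnK : n ≤ K) {xw : List Net}
    (hx : WOk N xw) {w : List Net} (hw : WOk N w) (hw' : ∀ L ∈ w, ∃ s, φ s = L.perm) {i A acc : ℕ}
    (hI : Inv φ U i A) (h : Good φ p₁ K xw acc) : Good φ p₁ K xw (walk K xw w i A acc) := by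
  induction w generalizing i A acc with
  | nil => exact h
  | cons L w ih =>
    rw [walk_cons]
    obtain ⟨s, hs⟩ := hw' L List.mem_cons_self
    have hI' := inv_step (hw L List.mem_cons_self) hs hI
    refine ih (fun M hM => hw M (List.mem_cons_of_mem _ hM)) (fun M hM => hw' M (List.mem_cons_of_mem _ hM)) hI'
      (good_upd hx ?_ (hr.inv_iff hI' _) h)
    obtain ⟨g, hg, _⟩ := hI'
    rw [← hg]
    exact (hr.lt g).trans_le hnK

/-- the check: all points are visited and `m` of them are marked -/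
noncomputable def chk (k : ℕ) (xw w : List Net) (U n m : ℕ) : Bool :=
  seqB (walk (Nat.pow 2 k) xw w 0 U 0) fun r =>
    Bool.rec false (seqB (Nat.shiftRight r (Nat.pow 2 k)) fun T =>
      Bool.rec false (Nat.beq (Nat.shiftRight T (Nat.pow 2 k)) 0) (Nat.beq (pc k T) m))
      (Nat.beq (Nat.land r (Nat.sub (Nat.pow 2 n) 1)) (Nat.sub (Nat.pow 2 n) 1))

theorem chk_spec {S : Subgroup G} {k k' m : ℕ} (hr : Rep φ S p₁ U n k) (hnK : n ≤ 2 ^ k') {xw : List Net}
    (hx : WOk (2 ^ k') xw) {w : List Net} (hw : WOk (2 ^ k') w) (hw' : ∀ L ∈ w, ∃ s, φ s = L.perm)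
    (h : chk k' xw w U n m = true) (hlt : ∀ q, Rn φ p₁ q (wperm xw q) → q < n) :
    {q : ℕ | Rn φ p₁ q (wperm xw q)}.ncard = m := by
  unfold chk at h
  rw [seqB_eq] at h
  have hI : Inv φ U 0 U := ⟨1, by simp, fun q => by simp⟩
  have hG0 : Good φ p₁ (2 ^ k') xw 0 := by
    intro q _
    simp
  have hG := good_walk hr hnK hx hw hw' hI hG0
  change ∀ q < 2 ^ k', _ at hG
  set r := walk (2 ^ k') xw w 0 U 0 with hrr
  have hr' : walk (Nat.pow 2 k') xw w 0 U 0 = r := rfl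
  rw [hr'] at h
  have h1 : Nat.beq (Nat.land r (Nat.sub (Nat.pow 2 n) 1)) (Nat.sub (Nat.pow 2 n) 1) = true := by
    by_contra hc
    rw [Bool.not_eq_true] at hc
    rw [hc] at h
    exact absurd h (by simp)
  rw [h1] at h
  simp only at h
  rw [seqB_eq] at h
  have h2 : Nat.beq (pc k' (Nat.shiftRight r (Nat.pow 2 k'))) m = true := by
    by_contra hc
    rw [Bool.not_eq_true] at hc
    rw [hc] at h
    exact absurd h (by simp)
  rw [h2] at h
  have h3 : Nat.beq (Nat.shiftRight (Nat.shiftRight r (Nat.pow 2 k')) (Nat.pow 2 k')) 0 = true := h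
  have h4 := ncard_testBit h3 h2
  rw [← h4]
  congr 1
  ext q
  have h5 : r &&& (2 ^ n - 1) = 2 ^ n - 1 := Nat.eq_of_beq_eq_true h1
  have hvis : ∀ q < n, r.testBit q = true := by
    intro q hq
    have h6 : (2 ^ n - 1).testBit q = true := by rw [Nat.testBit_two_pow_sub_one, decide_eq_true_eq]; exact hq
    rw [← h5, Nat.testBit_and, Bool.and_eq_true] at h6
    exact h6.1
  have h6 : (Nat.shiftRight r (Nat.pow 2 k')).testBit q = r.testBit (2 ^ k' + q) := Nat.testBit_shiftRight _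
  show _ ↔ (Nat.shiftRight r (Nat.pow 2 k')).testBit q = true
  rw [h6]
  by_cases hq : q < 2 ^ k'
  · rw [hG q hq]
    constructor
    · intro h7
      exact ⟨hvis q (hlt q h7), h7⟩
    · exact fun h7 => h7.2
  · constructor
    · intro h7
      exact absurd ((hlt q h7).trans_le hnK) hq
    · intro h7
      exfalso
      have h8 : r >>> 2 ^ k' >>> 2 ^ k' = 0 := Nat.eq_of_beq_eq_true h3
      have h9 : (r >>> 2 ^ k' >>> 2 ^ k').testBit (q - 2 ^ k') = true := by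
        rw [Nat.testBit_shiftRight, Nat.testBit_shiftRight, ← h7]
        congr 1
        omega
      rw [h8, Nat.zero_testBit] at h9
      exact absurd h9 (by simp)

/-! ### The action on the points -/

/-- the points -/
@[ext] structure Pt (φ : G →* Equiv.Perm ℕ) : Type where
  val : ℕ
  ex : ∃ g, φ g 0 = val

instance : MulAction G (Pt φ) where
  smul g p := ⟨φ g p.1, by
    obtain ⟨h, hh⟩ := p.2
    exact ⟨g * h, by rw [map_mul, Equiv.Perm.mul_apply, hh]⟩⟩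
  one_smul p := Pt.ext (by show φ 1 p.1 = p.1; simp)
  mul_smul g h p := Pt.ext (by show φ (g * h) p.1 = φ g (φ h p.1); simp)

theorem smul_val (g : G) (p : Pt φ) : (g • p).1 = φ g p.1 := rfl

/-- the base point -/
def pt0 : Pt φ := ⟨0, 1, by simp⟩

/-- the relation -/
def RR (b : Pt φ) (x y : Pt φ) : Prop := ∃ g : G, g • (pt0 : Pt φ) = x ∧ g • b = y

theorem RR_iff (b x y : Pt φ) : RR b x y ↔ Rn φ b.1 x.1 y.1 := by
  constructor
  · rintro ⟨g, h1, h2⟩
    exact ⟨g, congrArg Pt.val h1, congrArg Pt.val h2⟩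
  · rintro ⟨g, h1, h2⟩
    exact ⟨g, Pt.ext h1, Pt.ext h2⟩

theorem Rn_ex (b : Pt φ) {i j : ℕ} (h : Rn φ b.1 i j) : (∃ g, φ g 0 = i) ∧ ∃ g, φ g 0 = j := by
  obtain ⟨g, h1, h2⟩ := h
  obtain ⟨y, hy⟩ := b.2
  refine ⟨⟨g, h1⟩, g * y, ?_⟩
  rw [map_mul, Equiv.Perm.mul_apply, hy, h2]

theorem card_nbr (P : ℕ → Prop) (hP : ∀ q, P q → ∃ g, φ g 0 = q) :
    Nat.card {x : Pt φ // P x.1} = {q : ℕ | P q}.ncard := by
  rw [← Nat.card_coe_set_eq]
  exact Nat.card_congr ⟨fun x => ⟨x.1.1, x.2⟩, fun q => ⟨⟨q.1, hP _ q.2⟩, q.2⟩, fun x => rfl, fun q => rfl⟩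

theorem val_injective : Function.Injective (Pt.val : Pt φ → ℕ) := fun _ _ h => Pt.ext h

theorem orbit_ncard {S : Subgroup G} (hst : ∀ g, φ g 0 = 0 ↔ g ∈ S) (b : Pt φ) :
    (MulAction.orbit (MulAction.stabilizer G (pt0 : Pt φ)) b).ncard = {p : ℕ | ∃ x ∈ S, φ x b.1 = p}.ncard := by
  rw [← Set.ncard_image_of_injective _ (val_injective (φ := φ))]
  congr 1
  ext p
  constructor
  · rintro ⟨_, ⟨⟨g, hg⟩, rfl⟩, rfl⟩
    refine ⟨g, (hst g).1 ?_, rfl⟩
    exact congrArg Pt.val (MulAction.mem_stabilizer_iff.1 hg)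
  · rintro ⟨g, hg, rfl⟩
    refine ⟨g • b, ⟨⟨g, ?_⟩, rfl⟩, rfl⟩
    exact MulAction.mem_stabilizer_iff.2 (Pt.ext ((hst g).2 hg))

theorem card_Pt (hlt : ∀ g, φ g 0 < n) (hex : ∀ i < n, ∃ g, φ g 0 = i) : Nat.card (Pt φ) = n := by
  have h1 : Nat.card (Pt φ) = Nat.card (Fin n) :=
    Nat.card_congr ⟨fun x => ⟨x.1, by obtain ⟨g, hg⟩ := x.2; rw [← hg]; exact hlt g⟩,
      fun i => ⟨i.1, hex _ i.2⟩, fun x => rfl, fun i => rfl⟩
  rw [h1, Nat.card_eq_fintype_card, Fintype.card_fin]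

/-- The rank 3 action. -/
theorem r3 {S : Subgroup G} {p₁ p₂ U V n k l : ℕ} (h1 : Rep φ S p₁ U n k) (h2 : Rep φ S p₂ V n l)
    (hp1 : p₁ < n) (hp2 : p₂ < n) (h01 : p₁ ≠ 0) (h02 : p₂ ≠ 0) (hkl : k ≠ l) (hn : n = 1 + k + l) :
    R3 G (Pt φ) (RR (⟨p₁, h1.ex p₁ hp1⟩ : Pt φ)) k l := by
  have hfin : Finite (Pt φ) := Nat.finite_of_card_ne_zero (by rw [card_Pt h1.lt h1.ex]; omega)
  have ht : MulAction.IsPretransitive G (Pt φ) := by
    refine ⟨fun x y => ?_⟩
    obtain ⟨g, hg⟩ := x.2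
    obtain ⟨h, hh⟩ := y.2
    refine ⟨h * g⁻¹, Pt.ext ?_⟩
    rw [smul_val, ← hg, ← hh, map_mul, map_inv, Equiv.Perm.mul_apply, ← Equiv.Perm.mul_apply (φ g)⁻¹,
      inv_mul_cancel, Equiv.Perm.one_apply]
  refine R3.of_orbits (a := (pt0 : Pt φ)) (b := ⟨p₁, h1.ex p₁ hp1⟩) (c := ⟨p₂, h1.ex p₂ hp2⟩) ht ?_ ?_ ?_ ?_ hkl ?_
  · exact fun h => h01 (congrArg Pt.val h)
  · exact fun h => h02 (congrArg Pt.val h)
  · rw [orbit_ncard h1.stab]
    exact (congrArg Set.ncard h1.orb).trans h1.card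
  · rw [orbit_ncard h2.stab]
    exact (congrArg Set.ncard h2.orb).trans h2.card
  · rw [card_Pt h1.lt h1.ex, hn]

/-! ### Fixed points -/

/-- the points below `n` fixed by the word -/
noncomputable def fixm (k n : ℕ) (w : List Net) : ℕ :=
  seq (Nat.sub (Nat.pow 2 n) 1) fun u => Nat.xor u (Nat.land (PermNetFix.moved k w) u)

theorem testBit_fixm {k n : ℕ} (hn : n ≤ 2 ^ k) {w : List Net} (hw : WOk (2 ^ k) w) (q : ℕ) :
    (fixm k n w).testBit q = true ↔ (q < n ∧ wperm w q = q) := by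
  unfold fixm
  rw [seq_eq]
  show (((2 ^ n - 1) ^^^ (PermNetFix.moved k w &&& (2 ^ n - 1))).testBit q = true) ↔ _
  rw [Nat.testBit_xor, Nat.testBit_and, Nat.testBit_two_pow_sub_one]
  by_cases hq : q < n
  · rw [decide_eq_true hq, Bool.and_true, Bool.true_xor, Bool.not_eq_true',
      PermNetFix.testBit_moved_false hw (hq.trans_le hn)]
    exact ⟨fun h => ⟨hq, h⟩, fun h => h.2⟩
  · rw [decide_eq_false hq, Bool.and_false]
    simp [hq]

/-! ### The character -/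

theorem Rn_lt {S : Subgroup G} {k : ℕ} (hr : Rep φ S p₁ U n k) (hp : p₁ < n) {i j : ℕ} (h : Rn φ p₁ i j) :
    i < n ∧ j < n := by
  obtain ⟨⟨g, hg⟩, ⟨h, hh⟩⟩ := Rn_ex (⟨p₁, hr.ex p₁ hp⟩ : Pt φ) h
  exact ⟨hg ▸ hr.lt g, hh ▸ hr.lt h⟩

/-- **The character of degree `k₁` of a rank 3 action given by networks.** -/
theorem exists_irr [Finite G] {S : Subgroup G} {p₁ p₂ U V n k l : ℕ} (h1 : Rep φ S p₁ U n k)
    (h2 : Rep φ S p₂ V n l) (hp1 : p₁ < n) (hp2 : p₂ < n) (h01 : p₁ ≠ 0) (h02 : p₂ ≠ 0) (hkl : k ≠ l)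
    (hn : n = 1 + k + l) (hUp : U.testBit p₂ = false) {a b k' : ℕ} {w' : List Net} (hw' : WOk (2 ^ k') w')
    {s' : G} (hs' : φ s' = wperm w') (hp : wperm w' p₂ = 0)
    (hb0 : Nat.beq (Nat.shiftRight (Nat.land U (appWord w' U)) (Nat.pow 2 k')) 0 = true)
    (hb : Nat.beq (pc k' (Nat.land U (appWord w' U))) b = true) (hk : k * k = k + k * a + l * b) {u v : ℂ}
    (huv : u ≠ v) (h3 : u + v = a - b) (h4 : u * v = b - k) (hu : u * (k + l) + k ≠ 0)
    (hv : v * (k + l) + k ≠ 0) : ∃ χ : IrrCharacter G, ∀ g : G, (u - v) * (χ : G → ℂ) g =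
      ({q : ℕ | Rn φ p₁ q (φ g q)}.ncard : ℂ) - v * ({q : ℕ | q < n ∧ φ g q = q}.ncard : ℂ) - (k - v) := by
  have hr := r3 h1 h2 hp1 hp2 h01 h02 hkl hn
  set b0 : Pt φ := ⟨p₁, h1.ex p₁ hp1⟩ with hb0'
  set c0 : Pt φ := ⟨p₂, h1.ex p₂ hp2⟩ with hc0'
  have hI : Inv φ U 0 U := ⟨1, by simp, fun q => by simp⟩
  have hI2 : Inv φ U p₂ (appWord w' U) := by
    refine ⟨s'⁻¹, ?_, fun q => ?_⟩
    · rw [map_inv, hs', ← hp, ← Equiv.Perm.mul_apply, inv_mul_cancel, Equiv.Perm.one_apply]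
    · rw [testBit_appWord hw', map_inv, inv_inv, hs']
  have hcom : Nat.card {z // RR b0 pt0 z ∧ RR b0 z c0} = b := by
    have h5 : Nat.card {z // RR b0 pt0 z ∧ RR b0 z c0} =
        Nat.card {z : Pt φ // (Nat.land U (appWord w' U)).testBit z.1 = true} := by
      refine Nat.card_congr (Equiv.subtypeEquivRight fun z => ?_)
      show _ ↔ (U &&& appWord w' U).testBit z.1 = true
      rw [Nat.testBit_and, Bool.and_eq_true, h1.inv_iff hI, h1.inv_iff hI2, RR_iff]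
      have h6 : RR b0 z c0 ↔ Rn φ p₁ p₂ z.1 := by
        constructor
        · intro h7
          exact (RR_iff b0 c0 z).1 (hr.symm _ _ h7)
        · intro h7
          exact hr.symm _ _ ((RR_iff b0 c0 z).2 h7)
      rw [h6]
      exact Iff.rfl
    rw [h5, card_nbr (φ := φ) (fun q => (Nat.land U (appWord w' U)).testBit q = true) ?_, ncard_testBit hb0 hb]
    intro q hq
    have h7 : (U &&& appWord w' U).testBit q = true := hq
    rw [Nat.testBit_and, Bool.and_eq_true, h1.inv_iff hI] at h7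
    exact h1.ex q (Rn_lt h1 hp1 h7.1).2
  have hne : (pt0 : Pt φ) ≠ c0 := fun h => h02 (congrArg Pt.val h).symm
  have hR : ¬ RR b0 pt0 c0 := by
    intro h
    have h7 : U.testBit p₂ = true := (h1.inv_iff hI p₂).2 ((RR_iff b0 pt0 c0).1 h)
    rw [hUp] at h7
    exact absurd h7 (by simp)
  obtain ⟨χ, hχ⟩ := Chi.exists_irr hr hne hR hcom hk huv h3 h4 hu hv
  refine ⟨χ, fun g => ?_⟩
  have e1 : Nat.card {x : Pt φ // RR b0 x (g • x)} = {q : ℕ | Rn φ p₁ q (φ g q)}.ncard := by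
    rw [← card_nbr (φ := φ) (fun q => Rn φ p₁ q (φ g q)) (fun q hq => h1.ex q (Rn_lt h1 hp1 hq).1)]
    exact Nat.card_congr (Equiv.subtypeEquivRight fun z => by
      rw [RR_iff]
      exact Iff.rfl)
  have e2 : Nat.card (MulAction.fixedBy (Pt φ) g) = {q : ℕ | q < n ∧ φ g q = q}.ncard := by
    rw [← card_nbr (φ := φ) (fun q => q < n ∧ φ g q = q) (fun q hq => h1.ex q hq.1)]
    refine Nat.card_congr ⟨fun z => ⟨z.1, ?_, ?_⟩, fun z => ⟨z.1, ?_⟩, fun _ => rfl, fun _ => rfl⟩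
    · obtain ⟨y, hy⟩ := z.1.2
      rw [← hy]
      exact h1.lt y
    · exact congrArg Pt.val (MulAction.mem_fixedBy.1 z.2)
    · exact MulAction.mem_fixedBy.2 (Pt.ext z.2.2)
  rw [hχ g, e1, e2]

/-- The value at an element given by a word. -/
theorem value {S : Subgroup G} {p₁ U n k : ℕ} (h1 : Rep φ S p₁ U n k) (hp1 : p₁ < n) {k' : ℕ} (hnK : n ≤ 2 ^ k')
    {xw w : List Net} (hx : WOk (2 ^ k') xw) (hw : WOk (2 ^ k') w) (hw' : ∀ L ∈ w, ∃ s, φ s = L.perm) {x : G}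
    (hxw : φ x = wperm xw) {m f : ℕ} (hm : chk k' xw w U n m = true)
    (hf0 : Nat.beq (Nat.shiftRight (fixm k' n xw) (Nat.pow 2 k')) 0 = true)
    (hf : Nat.beq (pc k' (fixm k' n xw)) f = true) :
    {q : ℕ | Rn φ p₁ q (φ x q)}.ncard = m ∧ {q : ℕ | q < n ∧ φ x q = q}.ncard = f := by
  rw [hxw]
  refine ⟨chk_spec h1 hnK hx hw hw' hm fun q hq => (Rn_lt h1 hp1 hq).1, ?_⟩
  rw [← ncard_testBit hf0 hf]
  congr 1
  ext q
  exact (testBit_fixm hnK hx q).symm

end Cfsg.Agent.H896.Van.Walk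
end

-- part: H896/Van/SuzVal
section
/-!
# Two characters values of the rank 3 action of `Suz` (helper896, S4987)

`exists_irr` : the irreducible character of degree 780 vanishes at `ab` (order 5) and `abd` (order 10).
-/

set_option autoImplicit false
set_option maxRecDepth 100000
set_option exponentiation.threshold 5000

namespace Cfsg.Agent.H896.Van.SuzVal

open Cfsg.Spor Cfsg.Agent.Lib.PermNet Cfsg.Agent.Lib.PermNetOrbit Cfsg.Agent.SporadicRecognition.SuzPhi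
  Cfsg.Agent.SporadicRecognition.SuzBound Cfsg.Agent.SporadicRecognition.SuzOrder Cfsg.Agent.H896.Van.Walk
  Cfsg

/-- a walk through all points -/
def wlk : List Suz.Gen := [
  .a, .g, .b, .f, .g, .f, .c, .a, .f, .a, .d, .g, .c, .a, .b, .g, .a, .g, .b, .a, .d, .c, .d, .b, .a, .g, .a,
  .b, .c, .b, .d, .c, .a, .b, .g, .a, .g, .b, .g, .d, .g, .b, .c, .a, .c, .f, .g, .d, .g, .e, .g, .f, .b, .f,
  .a, .f, .b, .g, .b, .a, .g, .c, .a, .g, .b, .a, .d, .g, .c, .d, .f, .a, .c, .e, .d, .a, .b, .e, .g, .e, .a,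
  .g, .d, .a, .e, .d, .a, .d, .g, .e, .a, .e, .d, .a, .b, .e, .b, .a, .c, .b, .f, .e, .a, .e, .b, .g, .d, .g,
  .b, .a, .c, .f, .b, .f, .b, .f, .a, .d, .g, .d, .a, .d, .c, .a, .d, .a, .e, .a, .d, .a, .g, .a, .b, .g, .c,
  .d, .c, .d, .a, .g, .a, .d, .c, .a, .b, .d, .f, .d, .g, .e, .f, .e, .a, .d, .f, .d, .g, .d, .f, .d, .b, .d,
  .a, .d, .f, .d, .g, .d, .f, .e, .a, .e, .f, .e, .g, .d, .b, .a, .d, .a, .f, .e, .a, .b, .e, .b, .g, .e, .f,
  .e, .b, .f, .a, .f, .g, .a, .e, .a, .b, .f, .g, .f, .a, .f, .e, .f, .b, .g, .e, .g, .a, .e, .g, .e, .f, .e,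
  .a, .b, .g, .d, .a, .d, .b, .f, .e, .f, .c, .a, .e, .a, .g, .e, .a, .e, .f, .a, .e, .a, .g, .e, .a, .e, .d,
  .g, .b, .f, .e, .f, .b, .g, .b, .e, .d, .e, .a, .e, .d, .f, .a, .e, .a, .f, .g, .f, .a, .f, .e, .f, .a, .f,
  .d, .a, .f, .a, .g, .a, .e, .a, .b, .c, .f, .e, .a, .f, .c, .f, .b, .c, .d, .a, .f, .c, .g, .a, .f, .b, .d,
  .e, .d, .b, .a, .g, .b, .f, .e, .a, .e, .c, .e, .d, .g, .b, .d, .b, .e, .b, .c, .e, .d, .b, .f, .a, .f, .d,
  .f, .a, .f, .e, .a, .b, .a, .c, .e, .d, .g, .f, .a, .c, .e, .a, .f, .a, .b, .c, .a, .c, .d, .a, .g, .d, .a,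
  .d, .c, .f, .e, .f, .d, .f, .e, .f, .g, .e, .d, .e, .a, .g, .f, .g, .a, .e, .f, .g, .f, .g, .d, .c, .f, .g,
  .f, .e, .f, .g, .f, .c, .b, .e, .d, .e, .f, .e, .d, .e, .d, .g, .e, .g, .b, .d, .g, .e, .g, .f, .e, .g, .a,
  .g, .e, .g, .a, .f, .e, .g, .e, .d, .a, .f, .g, .f, .a, .f, .g, .c, .g, .e, .g, .c, .a, .g, .a, .f, .c, .e,
  .g, .e, .c, .d, .g, .e, .f, .e, .g, .a, .g, .e, .g, .a, .f, .g, .e, .d, .g, .d, .c, .e, .g, .e, .f, .e, .a,
  .g, .e, .g, .f, .e, .d, .e, .g, .e, .d, .e, .f, .e, .b, .d, .e, .d, .c, .d, .c, .e, .d, .g, .f, .e, .a, .g,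
  .d, .g, .f, .c, .f, .g, .a, .e, .a, .c, .g, .c, .a, .c, .b, .e, .c, .e, .d, .a, .f, .a, .b, .e, .f, .e, .b,
  .f, .d, .f, .a, .c, .g, .f, .g, .f, .b, .f, .e, .c, .b, .f, .g, .b, .g, .f, .d, .g, .e, .b, .e, .c, .d, .b,
  .d, .a, .d, .b, .e, .a, .e, .f, .b, .g, .e, .c, .b, .a, .d, .g, .e, .a, .e, .b, .g, .e, .a, .c, .e, .g, .e,
  .d, .c, .a, .c, .b, .f, .e, .f, .a, .e, .f, .e, .c, .a, .d, .a, .c, .e, .a, .f, .a, .e, .a, .f, .d, .f, .a,
  .f, .c, .f, .g, .b, .g, .b, .g, .a, .e, .d, .g, .e, .g, .f, .g, .a, .e, .g, .a, .g, .b, .f, .a, .e, .g, .e,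
  .f, .e, .b, .g, .d, .e, .a, .e, .d, .g, .d, .a, .e, .a, .b, .e, .a, .d, .a, .e, .b, .a, .g, .a, .d, .c, .g,
  .c, .a, .e, .g, .e, .b, .e, .a, .e, .b, .f, .e, .f, .g, .e, .d, .e, .a, .g, .e, .g, .d, .g, .c, .g, .b, .e,
  .f, .d, .f, .g, .d, .e, .c, .e, .g, .e, .d, .g, .e, .g, .b, .d, .b, .g, .e, .g, .b, .d, .g, .e, .g, .d, .a,
  .g, .b, .a, .d, .a, .e, .a, .d, .a, .b, .g, .f, .g, .d, .g, .f, .g, .e, .g, .f, .g, .a, .d, .b, .a, .b, .d,
  .g, .d, .e, .d, .e, .d, .g, .d, .b, .d, .e, .a, .g, .d, .e, .b, .e, .g, .e, .d, .g, .b, .e, .d, .f, .d, .g,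
  .a, .b, .d, .e, .g, .c, .d, .a, .g, .e, .g, .d, .g, .b, .e, .d, .e, .a, .e, .g, .a, .d, .a, .g, .b, .g, .a,
  .b, .g, .d, .g, .c, .d, .g, .d, .b, .d, .a, .d, .e, .a, .g, .a, .e, .a, .c, .g, .e, .g, .d, .g, .e, .g, .a,
  .e, .d, .e, .d, .e, .a, .e, .g, .e, .a, .e, .d, .e, .d, .e, .f, .g, .a, .g, .e, .a, .g, .a, .d, .a, .g, .a,
  .e, .g, .a, .g, .c, .a, .d, .a, .e, .a, .g, .e, .a, .e, .d, .c, .g, .c, .a, .c, .g, .c, .e, .c, .g, .c, .d,
  .g, .e, .a, .e, .g, .d, .g, .c, .g, .b, .f, .a, .c, .a, .e, .d, .g, .a, .g, .d, .c, .a, .f, .d, .f, .a, .f,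
  .d, .c, .d, .g, .a, .g, .d, .e, .a, .c, .d, .a, .f, .a, .e, .a, .d, .f, .d, .a, .d, .f, .c, .f, .g, .d, .e,
  .g, .e, .f, .e, .d, .e, .d, .a, .d, .e, .g, .e, .b, .d, .b, .a, .d, .e, .d, .a, .g, .b, .d, .a, .d, .c, .a,
  .f, .a, .e, .f, .a, .f, .d, .c, .f, .c, .a, .f, .c, .f, .e, .a, .c, .a, .f, .a, .c, .a, .b, .a, .f, .a, .b,
  .f, .g, .a, .g, .f, .g, .a, .b, .d, .c, .g, .a, .c, .a, .e, .c, .d, .g, .a, .b, .f, .a, .f, .e, .f, .a, .g,
  .a, .d, .a, .e, .d, .a, .g, .b, .a, .g, .a, .d, .a, .e, .a, .g, .a, .e, .a, .b, .g, .b, .g, .a, .g, .f, .a,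
  .g, .a, .d, .a, .f, .a, .g, .f, .a, .f, .c, .a, .g, .a, .e, .a, .g, .a, .b, .a, .d, .a, .e, .g, .a, .g, .b,
  .e, .g, .e, .f, .e, .b, .e, .c, .e, .d, .f, .a, .f, .b, .f, .a, .e, .f, .d, .g, .a, .f, .a, .c, .d, .c, .g,
  .a, .g, .f, .a, .g, .a, .d, .f, .e, .c, .b, .d, .e, .g, .e, .c, .e, .f, .e, .a, .f, .e, .f, .g, .c, .e, .d,
  .e, .c, .b, .e, .f, .e, .c, .a, .c, .e, .c, .a, .f, .e, .b, .c, .e, .c, .g, .f, .a, .f, .d, .c, .f, .c, .a,
  .f, .c, .f, .e, .a, .f, .a, .c, .a, .f, .a, .b, .e, .g, .e, .b, .e, .a, .e, .g, .e, .f, .g, .e, .g, .d, .f,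
  .g, .a, .f, .e, .f, .a, .g, .f, .b, .e, .a, .c, .g, .c, .a, .f, .b, .f, .a, .g, .a, .b, .a, .e, .a, .c, .g,
  .a, .g, .b, .d, .a, .f, .d, .a, .b, .g, .a, .g, .f, .a, .g, .d, .e, .a, .e, .d, .e, .g, .f, .d, .g, .d, .a,
  .d, .g, .d, .f, .g, .b, .f, .a, .f, .b, .e, .a, .f, .g, .a, .f, .a, .e, .f, .a, .f, .c, .e, .f, .a, .g, .f,
  .a, .g, .e, .g, .a, .f, .g, .a, .g, .d, .a, .g, .a, .f, .a, .g, .a, .e, .a, .g, .a, .c, .e, .f, .g, .a, .g,
  .f, .g, .a, .e, .a, .g, .f, .g, .a, .g, .c, .a, .g, .a, .b, .c, .a, .c, .d, .e, .c, .d, .a, .e, .c, .e, .b,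
  .f, .a, .f, .e, .a, .f, .a, .g, .e, .f, .e, .a, .e, .f, .e, .d, .b, .f, .e, .f, .c, .f, .e, .f, .g, .c, .e,
  .f, .e, .c, .e, .f, .a, .f, .c, .e, .c, .f, .c, .e, .b, .d, .a, .d, .e, .a, .g, .e, .a, .e, .d, .f, .d, .c,
  .g, .c, .d, .c, .e, .f, .e, .c, .a, .c, .e, .f, .e, .c, .d, .g, .d, .f, .b, .f, .c, .f, .e, .a, .c, .a, .b,
  .f, .a, .f, .g, .a, .f, .a, .d, .f, .a, .f, .e, .a, .d, .a, .g, .a, .d, .a, .e, .a, .f, .a, .e, .a, .b, .e,
  .f, .e, .a, .e, .f, .e, .c, .d, .b, .d, .g, .e, .g, .b, .g, .e, .d, .e, .g, .b, .f, .g, .d, .g, .f, .g, .e,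
  .a, .d, .e, .g, .e, .d, .e, .g, .d, .a, .e, .a, .g, .e, .f, .e, .g, .e, .d, .g, .c, .a, .f, .a, .g, .a, .f,
  .a, .e, .g, .f, .g, .f, .g, .f, .g, .b, .e, .g, .e, .f, .a, .f, .g, .f, .a, .e, .g, .a, .g, .f, .g, .b, .c,
  .e, .c, .g, .c, .e, .c, .d, .a, .g, .a, .e, .g, .a, .g, .b, .a, .e, .a, .d, .e, .g, .e, .d, .a, .e, .a, .b,
  .e, .g, .f, .e, .f, .a, .e, .g, .e, .f, .e, .a, .g, .e, .g, .b, .c, .a, .g, .e, .g, .a, .g, .e, .b, .e, .c,
  .a, .g, .f, .a, .f, .b, .e, .g, .e, .f, .g, .e, .g, .b, .e, .a, .g, .a, .f, .g, .a, .g, .e, .g, .a, .g, .f,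
  .a, .g, .b, .e, .g, .e, .a, .e, .g, .e, .d, .g, .a, .g, .e, .g, .a, .g, .b, .f, .a, .g, .a, .f, .a, .e, .d,
  .g, .f, .e, .c, .f, .e, .f, .a, .g, .f, .e, .a, .e, .f, .e, .b, .g, .e, .g, .c, .e, .g, .e, .f, .e, .c, .e,
  .g, .f, .e, .f, .b, .g, .a, .g, .c, .f, .e, .g, .a, .g, .e, .g, .f, .a, .g, .e, .c, .a, .c, .g, .c, .a, .c,
  .a, .d, .g, .b, .a, .e, .d, .g, .d, .e, .a, .f, .a, .e, .d, .g, .a, .e, .a, .c, .g, .a, .g, .d, .a, .e, .c,
  .d, .e, .d, .f, .g, .a, .f, .e, .a, .e, .g, .e, .a, .d, .a, .e, .d, .e, .g, .f, .e, .f, .a, .e, .f, .e, .g,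
  .e, .d, .b, .c, .a, .f, .c, .f, .e, .d, .a, .g, .a, .e, .a, .f, .e, .g, .a, .g, .e, .b, .e, .a, .e, .g, .e,
  .a, .e, .b, .c, .d, .f, .d, .c, .g, .f, .e, .f, .g, .f, .a, .e, .f, .e, .g, .e, .f, .e, .b, .a, .b, .g, .c,
  .f, .e, .f, .a, .f, .e, .f, .b, .c, .b, .f, .e, .a, .b, .f, .d, .f, .b, .c, .a, .g, .a, .b, .f, .f, .b, .c,
  .d, .e, .a, .e, .d, .g, .b, .a, .c, .a]

theorem wlk_ok : WOk (2 ^ 11) (wd wlk) := wd_ok wlk

theorem wlk_ex : ∀ L ∈ wd wlk, ∃ s, φ s = L.perm := by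
  intro L hL
  obtain ⟨x, _, rfl⟩ := List.mem_map.1 hL
  refine ⟨el [x], ?_⟩
  rw [φ_el]
  show wperm [net x] = _
  rw [wperm_cons, wperm_nil, mul_one]

set_option Elab.async false in
theorem chk_x : chk 11 (wd [.a, .b]) (wd wlk) U2 1782 400 = true := by (rewrite [show @Cfsg.Agent.H896.Van.Walk.chk = delta% @Cfsg.Agent.H896.Van.Walk.chk from by delta Cfsg.Agent.H896.Van.Walk.chk; rfl, show @Cfsg.Agent.H896.Van.Walk.walk = delta% @Cfsg.Agent.H896.Van.Walk.walk from by delta Cfsg.Agent.H896.Van.Walk.walk; rfl, show @Cfsg.Agent.H896.Van.Walk.upd = delta% @Cfsg.Agent.H896.Van.Walk.upd from by delta Cfsg.Agent.H896.Van.Walk.upd; rfl, Cfsg.Agent.Lib.PermNetFast.invPt_fast, Cfsg.Agent.Lib.PermNetFast.ptWord_fast, Cfsg.Agent.Lib.PermNetFast.pcO_fast]; decide +kernel)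

set_option Elab.async false in
theorem chk_y : chk 11 (wd [.a, .b, .d]) (wd wlk) U2 1782 400 = true := by (rewrite [show @Cfsg.Agent.H896.Van.Walk.chk = delta% @Cfsg.Agent.H896.Van.Walk.chk from by delta Cfsg.Agent.H896.Van.Walk.chk; rfl, show @Cfsg.Agent.H896.Van.Walk.walk = delta% @Cfsg.Agent.H896.Van.Walk.walk from by delta Cfsg.Agent.H896.Van.Walk.walk; rfl, show @Cfsg.Agent.H896.Van.Walk.upd = delta% @Cfsg.Agent.H896.Van.Walk.upd from by delta Cfsg.Agent.H896.Van.Walk.upd; rfl, Cfsg.Agent.Lib.PermNetFast.invPt_fast, Cfsg.Agent.Lib.PermNetFast.ptWord_fast, Cfsg.Agent.Lib.PermNetFast.pcO_fast]; decide +kernel)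

theorem stab_lt : (∀ g, φ g 0 = 0 ↔ g ∈ Subgroup.closure S6) ∧ (∀ g, φ g 0 < 1782) := by
  have hne : (Subgroup.closure S6).index ≠ 0 := by
    have : Finite Suz := finite_Suz
    exact Subgroup.index_ne_zero_of_finite
  have hle : (Subgroup.closure S6).index ≤ 1782 := by
    rw [S1680.S6_eq_image]; exact index_le
  exact (index_eq_of_action (Subgroup.closure S6) φ 1782 fix_S6 S1680.trans_point hle hne).2

theorem rep2 : Rep φ (Subgroup.closure S6) 1366 U2 1782 416 where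
  lt := stab_lt.2
  ex := S1680.trans_point
  stab := stab_lt.1
  orb := orb2
  card := ncard_testBit (k := 11) (U := U2) (m := 416) (by decide +kernel) (by decide +kernel)

theorem rep1 : Rep φ (Subgroup.closure S6) 1 U1 1782 1365 where
  lt := stab_lt.2
  ex := S1680.trans_point
  stab := stab_lt.1
  orb := orb1
  card := ncard_testBit (k := 11) (U := U1) (m := 1365) (by decide +kernel) (by decide +kernel)

theorem val_x : {q : ℕ | Rn φ 1366 q (φ (el [.a, .b]) q)}.ncard = 400 ∧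
    {q : ℕ | q < 1782 ∧ φ (el [.a, .b]) q = q}.ncard = 2 :=
  value rep2 (by norm_num) (by norm_num) (wd_ok _) wlk_ok wlk_ex (φ_el _) chk_x (by decide +kernel)
    (by decide +kernel)

theorem val_y : {q : ℕ | Rn φ 1366 q (φ (el [.a, .b, .d]) q)}.ncard = 400 ∧
    {q : ℕ | q < 1782 ∧ φ (el [.a, .b, .d]) q = q}.ncard = 2 :=
  value rep2 (by norm_num) (by norm_num) (wd_ok _) wlk_ok wlk_ex (φ_el _) chk_y (by decide +kernel)
    (by decide +kernel)

/-- The irreducible character of degree 780. -/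
theorem exists_irr : ∃ χ : IrrCharacter Suz, ∀ g : Suz, (36 : ℂ) * (χ : Suz → ℂ) g =
    ({q : ℕ | Rn φ 1366 q (φ g q)}.ncard : ℂ) + 16 * ({q : ℕ | q < 1782 ∧ φ g q = q}.ncard : ℂ) - 432 := by
  have hfin : Finite Suz := finite_Suz
  have hUp : U2.testBit 1 = false := by
    rw [← tb_eq]
    decide +kernel
  have hs : φ (el [.g]) = wperm (wd [.g]) := φ_el _
  have hp : wperm (wd [.g]) 1 = 0 := by
    rw [← ptWord_eq (wd_ok [.g])]
    decide +kernel
  obtain ⟨χ, hχ⟩ := Walk.exists_irr (u := 20) (v := -16) (a := 100) (b := 96) rep2 rep1 (by norm_num) (by norm_num)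
    (by norm_num) (by norm_num) (by norm_num) (by norm_num) hUp (wd_ok [.g]) hs hp (by decide +kernel)
    (by decide +kernel) (by norm_num) (by norm_num) (by norm_num) (by norm_num) (by norm_num) (by norm_num)
  refine ⟨χ, fun g => ?_⟩
  have h := hχ g
  push_cast at h
  linear_combination h

/-- The character of degree 780 vanishes at `ab` and `abd`. -/
theorem exists_zero : ∃ χ : IrrCharacter Suz, (χ : Suz → ℂ) (el [.a, .b]) = 0 ∧
    (χ : Suz → ℂ) (el [.a, .b, .d]) = 0 := by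
  obtain ⟨χ, hχ⟩ := exists_irr
  refine ⟨χ, ?_, ?_⟩
  · have h := hχ (el [.a, .b])
    rw [val_x.1, val_x.2] at h
    have h2 : (36 : ℂ) * (χ : Suz → ℂ) (el [.a, .b]) = 0 := by rw [h]; norm_num
    exact (mul_eq_zero.1 h2).resolve_left (by norm_num)
  · have h := hχ (el [.a, .b, .d])
    rw [val_y.1, val_y.2] at h
    have h2 : (36 : ℂ) * (χ : Suz → ℂ) (el [.a, .b, .d]) = 0 := by rw [h]; norm_num
    exact (mul_eq_zero.1 h2).resolve_left (by norm_num)

end Cfsg.Agent.H896.Van.SuzVal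
end

-- part: H896/Van/Suz
section
/-!
# Two 5-singular vanishing elements of `Suz` (helper896, S4987)
-/

set_option autoImplicit false
set_option maxRecDepth 100000
set_option exponentiation.threshold 5000

namespace Cfsg.Agent.H896.Van.Suz

open Cfsg Cfsg.Agent Cfsg.Spor Cfsg.Agent.Lib.PermNet Cfsg.Agent.SporadicRecognition.SuzPhi
  Cfsg.Agent.SporadicRecognition.SuzOrder Cfsg.Agent.KFacts.SuzRho Cfsg.Agent.Characters.Core

theorem aut_cases (α : MulAut Suz) : ∃ s : Suz, α = MulAut.conj s ∨ α = MulAut.conj s * rho := by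
  rcases KFacts.SuzOut.index_eq with h | h
  · have h1 : α ∈ (MulAut.conj : Suz →* MulAut Suz).range := by
      rw [Subgroup.index_eq_one.1 h]
      trivial
    obtain ⟨s, hs⟩ := h1
    exact ⟨s, Or.inl hs.symm⟩
  · by_cases h1 : α ∈ (MulAut.conj : Suz →* MulAut Suz).range
    · obtain ⟨s, hs⟩ := h1
      exact ⟨s, Or.inl hs.symm⟩
    · have h2 : rho ∉ (MulAut.conj : Suz →* MulAut Suz).range := by
        rintro ⟨s, hs⟩
        exact H997.OutSuz.rho_outer s hs.symm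
      obtain ⟨s, hs⟩ := (Subgroup.mul_mem_iff_of_index_two h).2 (iff_of_false h1 h2)
      refine ⟨s, Or.inr ?_⟩
      rw [hs, mul_assoc, rho_sq, mul_one]

theorem vz_of {w : List Suz.Gen} (hw : w.map sw = w) {χ : IrrCharacter Suz} (h : (χ : Suz → ℂ) (el w) = 0) :
    H713.VZ Suz (el w) := by
  have hfin : Finite Suz := Cfsg.Agent.SporadicRecognition.SuzBound.finite_Suz
  refine ⟨χ, fun α => ?_⟩
  obtain ⟨s, hs | hs⟩ := aut_cases α
  · rw [hs, MulAut.conj_apply]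
    exact (isIrr_isClassFunction χ.2 (el w) s).trans h
  · rw [hs, MulAut.mul_apply, rho_el, hw, MulAut.conj_apply]
    exact (isIrr_isClassFunction χ.2 (el w) s).trans h

theorem ne_one_of {w : List Suz.Gen} {p : ℕ} (h : Nat.beq (ptWord (wd w) p) p = false) : el w ≠ 1 := by
  intro h1
  have h2 := φ_el w
  rw [h1, map_one] at h2
  rw [ptWord_eq (wd_ok w), ← h2, Equiv.Perm.one_apply] at h
  rw [Nat.beq_refl] at h
  exact absurd h (by simp)

theorem order_x : orderOf (el [.a, .b]) = 5 := by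
  have : Fact (Nat.Prime 5) := ⟨by norm_num⟩
  refine orderOf_eq_prime ?_ (ne_one_of (p := 1) (by decide +kernel))
  rw [← el_rp]
  exact el_eq_one (by decide +kernel)

theorem order_y : 5 ∣ orderOf (el [.a, .b, .d]) ∧ orderOf (el [.a, .b, .d]) ≠ 5 := by
  have h10 : (el [.a, .b, .d]) ^ 10 = 1 := by
    rw [← el_rp]
    exact el_eq_one (by decide +kernel)
  have h2 : (el [.a, .b, .d]) ^ 2 ≠ 1 := by
    rw [← el_rp]
    exact ne_one_of (p := 1) (by decide +kernel)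
  have h5 : (el [.a, .b, .d]) ^ 5 ≠ 1 := by
    rw [← el_rp]
    exact ne_one_of (p := 4) (by decide +kernel)
  constructor
  · by_contra hc
    have hcop : Nat.Coprime (orderOf (el [.a, .b, .d])) 5 :=
      ((Nat.Prime.coprime_iff_not_dvd (by norm_num)).2 hc).symm
    have h3 : orderOf (el [.a, .b, .d]) ∣ 2 :=
      hcop.dvd_of_dvd_mul_left (by rw [show 5 * 2 = 10 from rfl]; exact orderOf_dvd_of_pow_eq_one h10)
    exact h2 (orderOf_dvd_iff_pow_eq_one.1 h3)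
  · intro h
    exact h5 (by rw [← h]; exact pow_orderOf_eq_one _)

/-- **The row of `Suz` for the prime 5.** -/
theorem two_suz_five {K : Type*} [Group K] (h : Spor.IsoSuz K) : H387.VO.TwoVan 5 K := by
  obtain ⟨e⟩ := h
  refine H387.VO.TwoVan.mulEquiv ?_ e.symm
  obtain ⟨χ, hx, hy⟩ := SuzVal.exists_zero
  exact H387.VO.TwoVan.of_order (x := el [.a, .b]) (y := el [.a, .b, .d]) (by rw [order_x]) order_y.1
    (vz_of rfl hx) (vz_of rfl hy) (by rw [order_x]; exact order_y.2.symm)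

end Cfsg.Agent.H896.Van.Suz
end
end
end
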